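import Mathlib.Algebra.Lie.CartanCriterion
import Mathlib.Algebra.Lie.Semisimple.Lemmas
import Mathlib.LinearAlgebra.BilinearForm.Properties

/-!
# The Casimir operator of an irreducible representation (characteristic zero)

For a Lie algebra with a faithful irreducible representation the trace form is non-degenerate and
the Casimir operator is invertible on the representation.  Consequence (`exists_inv`): an extension
of the trivial line by a faithful irreducible non-trivial module has an invariant vector.
-/

set_option autoImplicit false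

namespace K798.LieCas

open LieModule LieAlgebra Module

variable {K L : Type*} [Field K] [LieRing L] [LieAlgebra K L]

/-- The invariants of an ideal, as a Lie submodule. -/
def invs (M : Type*) [AddCommGroup M] [Module K M] [LieRingModule L M] [LieModule K L M]
    (I : LieIdeal K L) : LieSubmodule K L M where
  carrier := {m | ∀ x ∈ I, ⁅x, m⁆ = 0}
  add_mem' := by
    intro a b ha hb x hx
    rw [lie_add, ha x hx, hb x hx, add_zero]
  zero_mem' := by
    intro x _
    exact lie_zero x
  smul_mem' := by
    intro c a ha x hx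
    rw [lie_smul, ha x hx, smul_zero]
  lie_mem := by
    intro x m hm y hy
    rw [leibniz_lie, hm y hy, lie_zero, add_zero]
    refine hm _ ?_
    rw [← lie_skew]
    exact neg_mem (I.lie_mem hy)

lemma mem_invs {M : Type*} [AddCommGroup M] [Module K M] [LieRingModule L M] [LieModule K L M]
    {I : LieIdeal K L} {m : M} : m ∈ invs M I ↔ ∀ x ∈ I, ⁅x, m⁆ = 0 := Iff.rfl

/-- The radical of the trace form, as an ideal. -/
def trRad (M : Type*) [AddCommGroup M] [Module K M] [LieRingModule L M] [LieModule K L M] :
    LieIdeal K L where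
  carrier := {x | ∀ y, traceForm K L M x y = 0}
  add_mem' := by
    intro a b ha hb x
    rw [map_add, LinearMap.add_apply, ha x, hb x, add_zero]
  zero_mem' := by
    intro x
    rw [map_zero, LinearMap.zero_apply]
  smul_mem' := by
    intro c a ha x
    rw [map_smul, LinearMap.smul_apply, ha x, smul_zero]
  lie_mem := by
    intro x m hm y
    rw [traceForm_apply_lie_apply', hm, neg_zero]

lemma mem_trRad {M : Type*} [AddCommGroup M] [Module K M] [LieRingModule L M] [LieModule K L M]
    {x : L} : x ∈ trRad (K := K) M ↔ ∀ y, traceForm K L M x y = 0 := Iff.rfl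

section

variable [IsAlgClosed K] [CharZero K] [Module.Finite K L] (M : Type*) [AddCommGroup M] [Module K M]
  [LieRingModule L M] [LieModule K L M] [Module.Finite K M] [IsIrreducible K L M]
  [IsFaithful K L M]

omit [IsAlgClosed K] [Module.Finite K L] in
/-- The radical of the trace form of a faithful irreducible module is abelian. -/
lemma lie_trRad : ⁅trRad (K := K) (L := L) M, trRad (K := K) (L := L) M⁆ = ⊥ := by
  have hnt : Nontrivial M := nontrivial_of_isIrreducible K L M
  set r := trRad (K := K) (L := L) M with hr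
  set D : LieIdeal K L := ⁅r, r⁆ with hD
  have h0 : traceForm K r M = 0 := by
    ext ⟨x, hx⟩ ⟨y, hy⟩
    change traceForm K L M x y = 0
    exact hx y
  have h1 : IsNilpotent (derivedSeries K r 1) M := isNilpotent_derivedSeries_of_traceForm_eq_zero h0
  have h2 : IsNilpotent D M := by
    rw [LieModule.isNilpotent_iff_forall' (R := K)]
    rintro ⟨x, hx⟩
    refine (LieModule.isNilpotent_iff_forall' (R := K)).mp h1
      ⟨⟨x, LieSubmodule.lie_le_left r r hx⟩, ?_⟩
    rwa [LieIdeal.derivedSeries_eq_derivedSeriesOfIdeal_comap, LieIdeal.mem_comap]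
  have h3 := nontrivial_max_triv_of_isNilpotent K D M
  obtain ⟨⟨m, hm⟩, hm0⟩ := exists_ne (0 : LieModule.maxTrivSubmodule K D M)
  have h4 : invs M D ≠ ⊥ := by
    intro h
    apply hm0
    apply Subtype.ext
    have h5 : m ∈ invs M D := by
      intro x hx
      rw [LieModule.mem_maxTrivSubmodule] at hm
      exact hm ⟨x, hx⟩
    rw [h] at h5
    simpa using h5
  have h6' : Nontrivial (invs M D) := LieSubmodule.nontrivial_iff_ne_bot K L M |>.2 h4
  have h6 : invs M D = ⊤ := LieSubmodule.eq_top_of_isIrreducible K L M _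
  rw [LieSubmodule.eq_bot_iff]
  intro x hx
  rw [← toEnd_eq_zero_iff (R := K) (L := L) (M := M)]
  ext m
  have h7 : m ∈ invs M D := by rw [h6]; exact LieSubmodule.mem_top m
  exact h7 x hx

/-- **The trace form of a faithful irreducible module is non-degenerate.** -/
theorem eq_zero_of_traceForm {x : L} (h : ∀ y, traceForm K L M x y = 0) : x = 0 := by
  have hnt : Nontrivial M := nontrivial_of_isIrreducible K L M
  have h1 : IsLieAbelian (trRad (K := K) (L := L) M) :=
    (LieSubmodule.lie_abelian_iff_lie_self_eq_bot _).2 (lie_trRad M)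
  have h2 : IsSolvable (trRad (K := K) (L := L) M) := inferInstance
  have h3 : trRad (K := K) (L := L) M ≤ radical K L := (LieIdeal.solvable_iff_le_radical K L _).1 h2
  obtain ⟨h4, h5⟩ := hasCentralRadical_and_of_isIrreducible_of_isFaithful K L M
  have h6 : x ∈ center K L := by
    rw [← (hasCentralRadical_iff K L).mp h4]
    exact h3 h
  rw [h5] at h6
  obtain ⟨t, ht⟩ := Submodule.mem_span_singleton.1 h6
  have h7 := h x
  rw [traceForm_apply_apply, ← ht] at h7
  have h8 : LinearMap.trace K M ((t • (LinearMap.id : M →ₗ[K] M)) ∘ₗ (t • LinearMap.id)) =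
      t * t * (finrank K M : K) := by
    rw [LinearMap.smul_comp, LinearMap.id_comp, smul_smul, map_smul, LinearMap.trace_id,
      smul_eq_mul]
  rw [h8] at h7
  have h9 : (finrank K M : K) ≠ 0 := by
    have := Module.finrank_pos (R := K) (M := M)
    exact_mod_cast this.ne'
  have h10 : t = 0 := by
    rcases mul_eq_zero.1 h7 with h | h
    · exact mul_self_eq_zero.1 h
    · exact absurd h h9
  rw [← toEnd_eq_zero_iff (R := K) (L := L) (M := M), ← ht, h10, zero_smul]

/-- The trace form of a faithful irreducible module is non-degenerate, bundled. -/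
lemma nondegenerate : (traceForm K L M).Nondegenerate := by
  have h : (traceForm K L M).SeparatingLeft := fun x hx => eq_zero_of_traceForm M hx
  refine ⟨h, fun x hx => ?_⟩
  refine eq_zero_of_traceForm (K := K) M fun y => ?_
  rw [traceForm_comm]
  exact hx y

end

section cas

variable [IsAlgClosed K] [CharZero K] [Module.Finite K L] {V : Type*} [AddCommGroup V]
  [Module K V] [LieRingModule L V] [LieModule K L V] [Module.Finite K V] (N : LieSubmodule K L V)
  [IsIrreducible K L N] [IsFaithful K L N]

/-- The Casimir operator, for the trace form of the submodule `N`. -/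
noncomputable def cas : Module.End K V :=
  ∑ i, toEnd K L V (Module.finBasis K L i) ∘ₗ
    toEnd K L V ((traceForm K L N).dualBasis (nondegenerate N) (Module.finBasis K L) i)

lemma cas_apply (v : V) : cas N v = ∑ i, ⁅Module.finBasis K L i,
    ⁅(traceForm K L N).dualBasis (nondegenerate N) (Module.finBasis K L) i, v⁆⁆ := by
  simp [cas, LinearMap.sum_apply]

lemma cas_mem {v : V} (hv : v ∈ N) : cas N v ∈ N := by
  rw [cas_apply]
  exact Submodule.sum_mem N.toSubmodule fun i _ => N.lie_mem (N.lie_mem hv)

/-- The Casimir operator is equivariant. -/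
theorem lie_cas (x : L) (v : V) : ⁅x, cas N v⁆ = cas N ⁅x, v⁆ := by
  set b := Module.finBasis K L with hb
  set B := traceForm K L N with hB
  set c := B.dualBasis (nondegenerate N) b with hc
  have e1 : ∀ y : L, y = ∑ j, B (c j) y • b j := by
    intro y
    conv_lhs => rw [← b.sum_repr y]
    refine Finset.sum_congr rfl fun j _ => ?_
    congr 1
    conv_rhs => rw [← b.sum_repr y]
    rw [map_sum, Finset.sum_eq_single j]
    · rw [map_smul, hc, LinearMap.BilinForm.apply_dualBasis_left, if_pos rfl, smul_eq_mul, mul_one]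
    · intro i _ hij
      rw [map_smul, hc, LinearMap.BilinForm.apply_dualBasis_left, if_neg hij, smul_zero]
    · intro h
      exact absurd (Finset.mem_univ j) h
  have e2 : ∀ y : L, y = ∑ j, B y (b j) • c j := by
    intro y
    conv_lhs => rw [← c.sum_repr y]
    refine Finset.sum_congr rfl fun j _ => ?_
    rw [hc, LinearMap.BilinForm.dualBasis_repr_apply]
  have h1 : ⁅x, cas N v⁆ - cas N ⁅x, v⁆ =
      ∑ i, (⁅⁅x, b i⁆, ⁅c i, v⁆⁆ + ⁅b i, ⁅⁅x, c i⁆, v⁆⁆) := by
    rw [cas_apply, cas_apply, lie_sum, ← Finset.sum_sub_distrib]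
    refine Finset.sum_congr rfl fun i _ => ?_
    rw [leibniz_lie x (b i), leibniz_lie x (c i) v, lie_add]
    abel
  have h2 : ∑ i, ⁅⁅x, b i⁆, ⁅c i, v⁆⁆ = ∑ i, ∑ j, B (c j) ⁅x, b i⁆ • ⁅b j, ⁅c i, v⁆⁆ := by
    refine Finset.sum_congr rfl fun i _ => ?_
    conv_lhs => rw [e1 ⁅x, b i⁆, sum_lie]
    exact Finset.sum_congr rfl fun j _ => smul_lie _ _ _
  have h3 : ∑ i, ⁅b i, ⁅⁅x, c i⁆, v⁆⁆ = ∑ i, ∑ j, B ⁅x, c j⁆ (b i) • ⁅b j, ⁅c i, v⁆⁆ := by
    rw [Finset.sum_comm]
    refine Finset.sum_congr rfl fun i _ => ?_
    conv_lhs => rw [e2 ⁅x, c i⁆, sum_lie, lie_sum]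
    refine Finset.sum_congr rfl fun j _ => ?_
    rw [smul_lie, lie_smul]
  rw [← sub_eq_zero, h1, Finset.sum_add_distrib, h2, h3, ← Finset.sum_add_distrib]
  refine Finset.sum_eq_zero fun i _ => ?_
  rw [← Finset.sum_add_distrib]
  refine Finset.sum_eq_zero fun j _ => ?_
  rw [← add_smul, hB, traceForm_apply_lie_apply' K L N x (c j) (b i), add_neg_cancel, zero_smul]

/-- The Casimir operator restricted to `N`. -/
noncomputable def casN : Module.End K N :=
  (cas N).restrict (p := N.toSubmodule) (q := N.toSubmodule) fun _ hv => cas_mem N hv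

lemma casN_apply (v : N) : (casN N v : V) = cas N v := rfl

lemma trace_casN : LinearMap.trace K N (casN N) = finrank K L := by
  have h : casN N = ∑ i, toEnd K L N (Module.finBasis K L i) ∘ₗ
      toEnd K L N ((traceForm K L N).dualBasis (nondegenerate N) (Module.finBasis K L) i) := by
    ext v
    rw [casN_apply, cas_apply, LinearMap.sum_apply]
    have h0 := map_sum N.toSubmodule.subtype (fun i => (toEnd K L N (Module.finBasis K L i) ∘ₗ
      toEnd K L N ((traceForm K L N).dualBasis (nondegenerate N) (Module.finBasis K L) i)) v)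
      Finset.univ
    exact h0.symm
  rw [h, map_sum]
  have h2 : ∀ i, LinearMap.trace K N (toEnd K L N (Module.finBasis K L i) ∘ₗ
      toEnd K L N ((traceForm K L N).dualBasis (nondegenerate N) (Module.finBasis K L) i)) = 1 := by
    intro i
    rw [← traceForm_apply_apply, traceForm_comm, LinearMap.BilinForm.apply_dualBasis_left,
      if_pos rfl]
  simp [h2]

/-- The Casimir operator is a non-zero scalar on a non-trivial `N`. -/
theorem exists_scalar [Nontrivial L] : ∃ c : K, c ≠ 0 ∧ ∀ v ∈ N, cas N v = c • v := by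
  have hnt : Nontrivial N := nontrivial_of_isIrreducible K L N
  obtain ⟨c, hc⟩ := Module.End.exists_eigenvalue (casN N)
  let E : LieSubmodule K L N :=
    { Module.End.eigenspace (casN N) c with
      lie_mem := by
        intro x v hv
        change v ∈ Module.End.eigenspace (casN N) c at hv
        change ⁅x, v⁆ ∈ Module.End.eigenspace (casN N) c
        rw [Module.End.mem_eigenspace_iff] at hv ⊢
        apply Subtype.ext
        have h1 : cas N ((⁅x, v⁆ : N) : V) = ⁅x, ((casN N v : N) : V)⁆ := by
          rw [casN_apply, lie_cas]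
          rfl
        rw [casN_apply, h1, hv]
        change ⁅x, c • (v : V)⁆ = c • ⁅x, (v : V)⁆
        rw [lie_smul] }
  have hE : E = ⊤ := by
    have h1 : Nontrivial E := by
      rw [LieSubmodule.nontrivial_iff_ne_bot]
      intro h
      apply hc
      have h2 : E.toSubmodule = ⊥ := by rw [h]; rfl
      exact h2
    exact LieSubmodule.eq_top_of_isIrreducible K L N _
  have h3 : ∀ v : N, casN N v = c • v := by
    intro v
    have h4 : v ∈ E := by rw [hE]; exact LieSubmodule.mem_top v
    exact Module.End.mem_eigenspace_iff.1 h4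
  have h5 : casN N = c • LinearMap.id := by
    ext v
    rw [h3]
    rfl
  have h6 := trace_casN N
  rw [h5, map_smul, LinearMap.trace_id, smul_eq_mul] at h6
  refine ⟨c, ?_, fun v hv => ?_⟩
  · rintro rfl
    rw [zero_mul] at h6
    have h7 := Module.finrank_pos (R := K) (M := L)
    have h8 : (finrank K L : K) ≠ 0 := by exact_mod_cast h7.ne'
    exact h8 h6.symm
  · have h9 := congrArg Subtype.val (h3 ⟨v, hv⟩)
    exact h9

/-- **An extension of the trivial line by a faithful irreducible module has an invariant vector.** -/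
theorem exists_inv [Nontrivial L] (f : V →ₗ[K] K) (hf : ∀ v, f v = 0 ↔ v ∈ N)
    (hinv : ∀ (x : L) v, f ⁅x, v⁆ = 0) (hf0 : f ≠ 0) : ∃ v, f v ≠ 0 ∧ ∀ x : L, ⁅x, v⁆ = 0 := by
  obtain ⟨c, hc0, hc⟩ := exists_scalar N
  obtain ⟨v₀, hv₀⟩ : ∃ v, f v ≠ 0 := by
    by_contra! h
    exact hf0 (LinearMap.ext h)
  have h1 : ∀ v, cas N v ∈ N := by
    intro v
    rw [← hf, cas_apply, map_sum]
    exact Finset.sum_eq_zero fun i _ => hinv _ _
  refine ⟨v₀ - c⁻¹ • cas N v₀, ?_, fun x => ?_⟩
  · rw [map_sub, map_smul, (hf _).2 (h1 v₀), smul_zero, sub_zero]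
    exact hv₀
  · set v := v₀ - c⁻¹ • cas N v₀ with hv
    have h2 : cas N v = 0 := by
      rw [hv, map_sub, map_smul, hc _ (h1 v₀), smul_smul, inv_mul_cancel₀ hc0, one_smul, sub_self]
    have h3 : ⁅x, v⁆ ∈ N := (hf _).1 (hinv x v)
    have h4 : c • ⁅x, v⁆ = 0 := by
      rw [← hc _ h3, ← lie_cas, h2, lie_zero]
    exact (smul_eq_zero.1 h4).resolve_left hc0

end cas

end K798.LieCas
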