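import Groth.Agent.AGF.K798.KerPt
import Groth.Agent.AGF.K798.LieCas

/-!
# Reductive groups in characteristic zero are linearly reductive (algebraically closed field)
-/

set_option autoImplicit false

universe u v w

open TensorProduct HopfRep WithConv

namespace K798.LinRed

open Groth.Agent.Agf.H601 Groth.Agent.Agf.H601.LieMat Groth.Agent.Books.ComodBasic
  Groth.Agent.Books.ComodHom Groth.Agent.Sga3B.RG

open K191.Reductive (InvForm Lift)

attribute [local instance 100] LieRing.ofAssociativeRing LieAlgebra.ofAssociativeAlgebra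
  LieRingModule.ofAssociativeModule LieModule.ofAssociativeModule

section lie

variable {K : Type u} [Field K] {A : Type u} [CommRing A] [HopfAlgebra K A]

lemma dmul_apply (X Y : A →ₗ[K] K) (a : A) : dmul K A X Y a = X (rD Y a) := by
  rw [dmul, rD, LinearMap.comp_apply, LinearMap.comp_apply, LinearMap.comp_apply,
    LinearMap.comp_apply]
  generalize (CoalgebraStruct.comul (R := K) a : A ⊗[K] A) = z
  induction z with
  | zero => simp
  | tmul x y => simp [mul_comm]
  | add x y hx hy => rw [map_add, map_add, hx, hy, map_add, map_add, map_add]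

/-- The Lie algebra is closed under commutators. -/
lemma isLie_comm {X Y : A →ₗ[K] K} (hX : IsLie X) (hY : IsLie Y) :
    IsLie (dmul K A X Y - dmul K A Y X) := by
  intro a b
  rw [LinearMap.sub_apply, LinearMap.sub_apply, LinearMap.sub_apply, dmul_apply, dmul_apply,
    dmul_apply, dmul_apply, dmul_apply, dmul_apply, rD_mul hX, rD_mul hY, map_add, map_add,
    hX, hX, hY, hY, counit_rD, counit_rD, counit_rD, counit_rD]
  ring

lemma isLie_add {X Y : A →ₗ[K] K} (hX : IsLie X) (hY : IsLie Y) : IsLie (X + Y) := by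
  intro a b
  rw [LinearMap.add_apply, LinearMap.add_apply, LinearMap.add_apply, hX, hY]
  ring

lemma isLie_smul {X : A →ₗ[K] K} (hX : IsLie X) (c : K) : IsLie (c • X) := by
  intro a b
  rw [LinearMap.smul_apply, LinearMap.smul_apply, LinearMap.smul_apply, hX]
  simp only [smul_eq_mul]
  ring

variable (V : Type w) [AddCommGroup V] [Module K V] [Comod K A V]

lemma dact_add (X Y : A →ₗ[K] K) : dact V (X + Y) = dact V X + dact V Y := by
  ext v
  rw [LinearMap.add_apply, dact_apply, dact_apply, dact_apply]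
  generalize Comod.coact (k := K) (A := A) v = y
  induction y with
  | zero => simp
  | tmul x a => simp [add_smul]
  | add x y hx hy => rw [map_add, map_add, map_add, hx, hy]; abel

lemma dact_smul (c : K) (X : A →ₗ[K] K) : dact V (c • X) = c • dact V X := by
  ext v
  rw [LinearMap.smul_apply, dact_apply, dact_apply]
  generalize Comod.coact (k := K) (A := A) v = y
  induction y with
  | zero => simp
  | tmul x a => simp [mul_smul]
  | add x y hx hy => rw [map_add, map_add, hx, hy, smul_add]

lemma dact_zero : dact V (0 : A →ₗ[K] K) = 0 := by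
  have := dact_smul V (0 : K) (0 : A →ₗ[K] K)
  rwa [zero_smul, zero_smul] at this

lemma dact_sub (X Y : A →ₗ[K] K) : dact V (X - Y) = dact V X - dact V Y := by
  rw [sub_eq_add_neg, ← neg_one_smul K Y, dact_add, dact_smul, neg_one_smul, ← sub_eq_add_neg]

variable (K A) in
/-- The image of the Lie algebra in the endomorphisms of a comodule. -/
noncomputable def lieIm (V : Type w) [AddCommGroup V] [Module K V] [Comod K A V] :
    LieSubalgebra K (Module.End K V) where
  carrier := {T | ∃ X : A →ₗ[K] K, IsLie X ∧ dact V X = T}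
  add_mem' := by
    rintro _ _ ⟨X, hX, rfl⟩ ⟨Y, hY, rfl⟩
    exact ⟨X + Y, isLie_add hX hY, dact_add V X Y⟩
  zero_mem' := ⟨0, fun _ _ => by simp, dact_zero V⟩
  smul_mem' := by
    rintro c _ ⟨X, hX, rfl⟩
    exact ⟨c • X, isLie_smul hX c, dact_smul V c X⟩
  lie_mem' := by
    rintro _ _ ⟨X, hX, rfl⟩ ⟨Y, hY, rfl⟩
    refine ⟨dmul K A X Y - dmul K A Y X, isLie_comm hX hY, ?_⟩
    rw [dact_sub]
    ext v
    rw [LinearMap.sub_apply, ← dact_dact, ← dact_dact]
    rfl

lemma dact_mem_lieIm {X : A →ₗ[K] K} (hX : IsLie X) : dact V X ∈ lieIm K A V := ⟨X, hX, rfl⟩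

end lie

section main

variable {K : Type u} [Field K] [IsAlgClosed K] [CharZero K] {A : Type u} [CommRing A]
  [HopfAlgebra K A] [Algebra.FiniteType K A] [IsDomain A]

/-- The case of an extension of the trivial line by a simple module. -/
theorem exists_fixed_simple (hred : IsRedPt K A) {V : Type w} [AddCommGroup V] [Module K V]
    [Comod K A V] [Module.Finite K V] {f : V →ₗ[K] K} (hf : InvForm (A := A) f) (hf0 : f ≠ 0)
    (hker : LinearMap.ker f ≠ ⊥)
    (hs : ∀ W : Submodule K V, IsSubcomod (k := K) (A := A) W → W ≤ LinearMap.ker f →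
      W = ⊥ ∨ W = LinearMap.ker f) : ∃ v ∈ fixedPts K A V, f v ≠ 0 := by
  have hnoeth : IsNoetherianRing A := Algebra.FiniteType.isNoetherianRing K A
  have hsub : IsSubcomod (k := K) (A := A) (LinearMap.ker f) := by
    rw [isSubcomod_iff_dact]
    intro φ w hw
    rw [LinearMap.mem_ker] at hw ⊢
    rw [KerPt.invForm_dact hf, hw, mul_zero]
  let L := lieIm K A V
  have hLf : ∀ (x : L) (v : V), f ⁅x, v⁆ = 0 := by
    rintro ⟨_, X, hX, rfl⟩ v
    change f (dact V X v) = 0
    rw [KerPt.invForm_dact hf, LieBasic.IsLie.map_one hX, zero_mul]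
  let N : LieSubmodule K L V :=
    { LinearMap.ker f with
      lie_mem := by
        intro x v _
        exact hLf x v }
  have hN : ∀ v, v ∈ N ↔ f v = 0 := fun v => Iff.rfl
  have hnt : Nontrivial N := by
    obtain ⟨v, hv, hv0⟩ := Submodule.exists_mem_ne_zero_of_ne_bot hker
    exact ⟨⟨⟨v, hv⟩, 0, fun h => hv0 (congrArg Subtype.val h)⟩⟩
  have hirr : LieModule.IsIrreducible K L N := by
    refine LieModule.IsIrreducible.mk fun N' hN' => ?_
    let W : Submodule K V := N'.toSubmodule.map N.toSubmodule.subtype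
    have hW : IsSubcomod (k := K) (A := A) W := by
      refine LieStab.isSubcomod_of_lie fun X hX w hw => ?_
      obtain ⟨n, hn, rfl⟩ := hw
      exact ⟨_, N'.lie_mem (x := ⟨dact V X, dact_mem_lieIm V hX⟩) hn, rfl⟩
    have hWle : W ≤ LinearMap.ker f := by
      rintro _ ⟨n, -, rfl⟩
      exact n.2
    rcases hs W hW hWle with h | h
    · exfalso
      apply hN'
      rw [LieSubmodule.eq_bot_iff]
      intro n hn
      have h1 : (n : V) ∈ W := ⟨n, hn, rfl⟩
      rw [h, Submodule.mem_bot] at h1
      exact Subtype.ext h1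
    · rw [eq_top_iff]
      intro n _
      have h1 : (n : V) ∈ W := by rw [h]; exact n.2
      obtain ⟨n', hn', h2⟩ := h1
      have h3 : n' = n := Subtype.ext h2
      rw [← h3]
      exact hn'
  have hfaith : LieModule.IsFaithful K L N := by
    rw [LieModule.isFaithful_iff']
    rintro ⟨_, X, hX, rfl⟩ hx
    let inst := subComod (LinearMap.ker f) hsub
    have h1 := KerPt.dact_eq_zero hred (isComodHom_subtype (LinearMap.ker f) hsub) hf
      (fun v hv => ⟨⟨v, hv⟩, rfl⟩) hX (fun m => by
        have h2 := (isComodHom_subtype (LinearMap.ker f) hsub).map_dact X m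
        apply Subtype.ext
        refine h2.trans ?_
        exact congrArg Subtype.val (hx ⟨m.1, m.2⟩))
    apply Subtype.ext
    ext v
    exact h1 v
  rcases subsingleton_or_nontrivial L with hL | hL
  · obtain ⟨v, hv⟩ : ∃ v, f v ≠ 0 := by
      by_contra! h
      exact hf0 (LinearMap.ext h)
    refine ⟨v, LieStab.mem_fixedPts_of_lie fun X hX => ?_, hv⟩
    have h1 : (⟨dact V X, dact_mem_lieIm V hX⟩ : L) = 0 := Subsingleton.elim _ _
    have h2 : dact V X = 0 := congrArg Subtype.val h1
    rw [h2]
    rfl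
  · obtain ⟨v, hv, hv'⟩ := LieCas.exists_inv N f (fun v => (hN v).symm) hLf hf0
    refine ⟨v, LieStab.mem_fixedPts_of_lie fun X hX => ?_, hv⟩
    exact hv' ⟨dact V X, dact_mem_lieIm V hX⟩

omit [IsAlgClosed K] [CharZero K] [Algebra.FiniteType K A] [IsDomain A] in
lemma mem_fixedPts_iff {V : Type w} [AddCommGroup V] [Module K V] [Comod K A V] {v : V} :
    v ∈ fixedPts K A V ↔ ∀ φ : A →ₗ[K] K, dact V φ v = φ 1 • v :=
  coact_eq_tmul_iff v 1

/-- **The lifting property**, by induction on the dimension. -/
theorem exists_fixed (hred : IsRedPt K A) (n : ℕ) : ∀ (V : Type w) [AddCommGroup V] [Module K V]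
    [Comod K A V] [Module.Finite K V] (f : V →ₗ[K] K), Module.finrank K V ≤ n →
      InvForm (A := A) f → f ≠ 0 → ∃ v ∈ fixedPts K A V, f v ≠ 0 := by
  induction n with
  | zero =>
    intro V _ _ _ _ f hn _ hf0
    exfalso
    have h1 : Subsingleton V := Module.finrank_zero_iff.1 (Nat.le_zero.1 hn)
    exact hf0 (LinearMap.ext fun v => by rw [Subsingleton.elim v 0, map_zero, map_zero])
  | succ n ih =>
    intro V _ _ _ _ f hn hf hf0
    obtain ⟨v₀, hv₀⟩ : ∃ v, f v ≠ 0 := by
      by_contra! h
      exact hf0 (LinearMap.ext h)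
    by_cases hker : LinearMap.ker f = ⊥
    · refine ⟨v₀, ?_, hv₀⟩
      rw [mem_fixedPts_iff]
      intro φ
      apply LinearMap.ker_eq_bot.1 hker
      rw [KerPt.invForm_dact hf, map_smul, smul_eq_mul]
    by_cases hs : ∀ W : Submodule K V, IsSubcomod (k := K) (A := A) W → W ≤ LinearMap.ker f →
      W = ⊥ ∨ W = LinearMap.ker f
    · exact exists_fixed_simple hred hf hf0 hker hs
    push Not at hs
    obtain ⟨W, hW, hWle, hW0, hWne⟩ := hs
    let instQ := quotComod W hW
    let fQ : (V ⧸ W) →ₗ[K] K := W.liftQ f hWle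
    have hfQ : InvForm (A := A) fQ := by
      intro q
      obtain ⟨v, rfl⟩ := W.mkQ_surjective q
      rw [isComodHom_mkQ W hW v, ← LinearMap.comp_apply, ← LinearMap.rTensor_comp,
        Submodule.liftQ_mkQ, hf v]
      rfl
    have hfQ0 : fQ ≠ 0 := fun h => hv₀ (by
      have := LinearMap.congr_fun h (W.mkQ v₀)
      exact this)
    have hdimQ : Module.finrank K (V ⧸ W) ≤ n := by
      have h1 := Submodule.finrank_quotient_add_finrank W
      have h2 : 0 < Module.finrank K W := by
        have : Nontrivial W := Submodule.nontrivial_iff_ne_bot.2 hW0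
        exact Module.finrank_pos
      omega
    obtain ⟨q, hq, hfq⟩ := ih (V ⧸ W) fQ hdimQ hfQ hfQ0
    have hqs : IsSubcomod (k := K) (A := A) (K ∙ q) := by
      rw [isSubcomod_iff_dact]
      intro φ x hx
      obtain ⟨c, rfl⟩ := Submodule.mem_span_singleton.1 hx
      rw [map_smul, (mem_fixedPts_iff.1 hq) φ]
      exact Submodule.smul_mem _ _ (Submodule.smul_mem _ _ (Submodule.mem_span_singleton_self q))
    let V' : Submodule K V := (K ∙ q).comap W.mkQ
    have hV' : IsSubcomod (k := K) (A := A) V' := (isComodHom_mkQ W hW).comap hqs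
    let instV := subComod V' hV'
    have hfV : InvForm (A := A) (f ∘ₗ V'.subtype) := hf.comp (isComodHom_subtype V' hV')
    obtain ⟨v₁, hv₁⟩ := W.mkQ_surjective q
    have hfv₁ : f v₁ ≠ 0 := by
      rw [← hv₁] at hfq
      exact hfq
    have hv₁' : v₁ ∈ V' := by
      change W.mkQ v₁ ∈ K ∙ q
      rw [hv₁]
      exact Submodule.mem_span_singleton_self q
    have hfV0 : f ∘ₗ V'.subtype ≠ 0 := fun h => hfv₁ (by
      have := LinearMap.congr_fun h ⟨v₁, hv₁'⟩
      exact this)
    have hne : V' ≠ ⊤ := by
      intro h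
      obtain ⟨m, hm, hmW⟩ := SetLike.exists_of_lt (lt_of_le_of_ne hWle hWne)
      have h1 : m ∈ V' := by rw [h]; trivial
      obtain ⟨c, hc⟩ := Submodule.mem_span_singleton.1 (show W.mkQ m ∈ K ∙ q from h1)
      have h2 : c * fQ q = 0 := by
        rw [← smul_eq_mul, ← map_smul, hc]
        exact hm
      have h3 : c = 0 := (mul_eq_zero.1 h2).resolve_right hfq
      rw [h3, zero_smul] at hc
      apply hmW
      rw [← Submodule.Quotient.mk_eq_zero]
      exact hc.symm
    have hdimV : Module.finrank K V' ≤ n := by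
      have h1 := Submodule.finrank_lt hne
      omega
    obtain ⟨v, hv, hfv⟩ := ih V' (f ∘ₗ V'.subtype) hdimV hfV hfV0
    refine ⟨v.1, ?_, hfv⟩
    rw [mem_fixedPts_iff] at hv ⊢
    intro φ
    have h1 := (isComodHom_subtype V' hV').map_dact φ v
    rw [hv φ] at h1
    exact h1.symm

/-- **Reductive groups over an algebraically closed field of characteristic zero are linearly
reductive.** -/
theorem isLinearlyReductive (hred : IsRedPt K A) : IsLinearlyReductive K A := by
  rw [K191.Reductive.isLinearlyReductive_iff_lift]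
  intro V _ _ _ hfin f hf hf0
  exact exists_fixed hred _ V f le_rfl hf hf0

end main

end K798.LinRed
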