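import Groth.Agent.AGF.K798.KerPt
import Groth.Agent.Sga3B.RG.UnipRep
import Groth.Agent.Sga3B.RG.Kolchin

/-!
# Linearly reductive groups over an algebraically closed field are reductive (on points)
-/

set_option autoImplicit false

universe u v w

open TensorProduct HopfRep WithConv

namespace K798.LinRedConv

open Groth.Agent.Books.ComodBasic Groth.Agent.Books.ComodHom Groth.Agent.Sga3B.RG KerPt

variable {K : Type u} [Field K] {A : Type u} [CommRing A] [HopfAlgebra K A]

/-- The representation of the group of points on a comodule. -/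
noncomputable def rep (K : Type u) [Field K] (A : Type u) [CommRing A] [HopfAlgebra K A] (V : Type w) [AddCommGroup V]
    [Module K V] [Comod K A V] : Representation K (Pt K A) V where
  toFun g := pa V g
  map_one' := by
    ext v
    exact pa_one v
  map_mul' g h := by
    ext v
    exact pa_mul g h v

lemma isAlg_rep (V : Type w) [AddCommGroup V] [Module K V] [Comod K A V] : IsAlg (rep K A V) :=
  fun f v => ⟨coeffMap A f v, fun g => (apply_coeffMap_pt g f v).symm⟩

variable [IsAlgClosed K] [Algebra.FiniteType K A] [IsReduced A]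

/-- Subcomodules are the subspaces stable under points. -/
lemma isSubcomod_of_stable {V : Type w} [AddCommGroup V] [Module K V] [Comod K A V]
    {W : Submodule K V} (hW : ∀ g : Pt K A, ∀ w ∈ W, pa V g w ∈ W) :
    IsSubcomod (k := K) (A := A) W := by
  rw [isSubcomod_iff_dact]
  intro φ w hw
  by_contra hcon
  obtain ⟨ψ, hψ, hψ'⟩ := Submodule.exists_le_ker_of_notMem hcon
  have h1 : coeffMap A ψ w = 0 := by
    apply eq_zero_of_forall_pt (K := K)
    intro g
    exact (apply_coeffMap_pt g ψ w).trans (hψ' (hW g w hw))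
  apply hψ
  rw [← apply_coeffMap (A := A), h1, map_zero]

/-- A normal unipotent subgroup acts trivially on semisimple comodules. -/
theorem pa_eq_self {V : Type u} [AddCommGroup V] [Module K V] [Comod K A V] [Module.Finite K V]
    (hs : IsSemisimpleComod K A V) {N : Subgroup (Pt K A)} (hN : N.Normal)
    (hu : ∀ g ∈ N, IsUnip g) {g : Pt K A} (hg : g ∈ N) (v : V) : pa V g v = v := by
  let F : Submodule K V :=
    { carrier := {v | ∀ g ∈ N, pa V g v = v}
      add_mem' := fun {a b} ha hb g hg => by rw [map_add, ha g hg, hb g hg]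
      zero_mem' := fun g _ => map_zero _
      smul_mem' := fun c a ha g hg => by rw [map_smul, ha g hg] }
  have hF : IsSubcomod (k := K) (A := A) F := by
    refine isSubcomod_of_stable fun x w hw g hg => ?_
    have h1 := hw (x⁻¹ * g * x) (by
      have := hN.conj_mem g hg x⁻¹
      rwa [inv_inv] at this)
    rw [mul_assoc, pa_mul, pa_mul] at h1
    have h2 := congrArg (pa V x) h1
    rwa [← pa_mul x x⁻¹, mul_inv_cancel, pa_one] at h2
  obtain ⟨C, hC, hcompl⟩ := hs F hF
  have hC0 : C = ⊥ := by
    by_contra hne
    let inst := subComod C hC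
    have hnt : Nontrivial C := Submodule.nontrivial_iff_ne_bot.2 hne
    obtain ⟨c, hc, hc'⟩ := Groth.Agent.Sga3B.RG.exists_fixed_of_unipotent
      ((rep K A C).comp N.subtype) (fun n => (hu n.1 n.2).rep (isAlg_rep (A := A) C))
    have h1 : (c : V) ∈ F := by
      intro g hg
      have h2 := (isComodHom_subtype C hC).map_dact g.ofConv.toLinearMap c
      have h3 : pa C g c = c := hc' ⟨g, hg⟩
      refine h2.symm.trans ?_
      exact congrArg Subtype.val h3
    have h4 : (c : V) ∈ F ⊓ C := ⟨h1, c.2⟩
    rw [hcompl.inf_eq_bot, Submodule.mem_bot] at h4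
    exact hc (Subtype.ext h4)
  have hFt : F = ⊤ := by
    have := hcompl.sup_eq_top
    rwa [hC0, sup_bot_eq] at this
  have hv : v ∈ F := by rw [hFt]; trivial
  exact hv g hg

/-- **Linearly reductive groups are reductive.** -/
theorem isRedPt (h : IsLinearlyReductive K A) : IsRedPt K A := by
  intro N hN _ _ hu
  rw [eq_bot_iff]
  intro g hg
  rw [Subgroup.mem_bot]
  apply Pt.ext'
  intro a
  obtain ⟨W, hW, hWfin, ha⟩ := exists_finite_isSubcomod_mem (k := K) (A := A) a
  let inst := subComod W hW
  have h1 := pa_eq_self (h W hWfin) hN hu hg ⟨a, ha⟩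
  have h2 := (isComodHom_subtype W hW).map_dact g.ofConv.toLinearMap ⟨a, ha⟩
  have h3 : (pa W g ⟨a, ha⟩ : A) = a := congrArg Subtype.val h1
  have h4 : dact A g.ofConv.toLinearMap a = a := h2.symm.trans h3
  have h5 := Groth.Agent.Agf.H601.LieMat.counit_rD (X := g.ofConv.toLinearMap) a
  have h6 : Groth.Agent.Agf.H601.LieMat.rD g.ofConv.toLinearMap a = a := h4
  rw [h6] at h5
  rw [Pt.one_apply]
  exact h5.symm

end K798.LinRedConv
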