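import Groth.Agent.AGF.K798.SmoothHopf
import Groth.Agent.AGF.K798.LinRedConv
import Groth.Agent.Agf.H614.FieldGlue
import Groth.Agent.Agf.H601.LieCartier
import Groth.Agent.HopfRep.K191.BaseInt

/-!
# Geometric fibres of connected affine groups in characteristic zero
-/

set_option autoImplicit false
universe u
open CategoryTheory MonoidalCategory CartesianMonoidalCategory MonObj GrpObj AlgebraicGeometry
open TensorProduct
open Groth.Agent.Books.AffBridge Groth.Agent.Sga3B.RG

namespace K798.BcDom

variable {k : Type u} [Field k] [CharZero k] (A : Type u) [CommRing A] [HopfAlgebra k A]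
  [Algebra.FiniteType k A] (Ω : Type u) [Field Ω] [IsAlgClosed Ω] [Algebra k Ω]

/-- The coordinate ring of a connected affine group in characteristic zero is geometrically a
domain. -/
theorem isDomain_tensor [ConnectedSpace ↥(Spec (CommRingCat.of A))] : IsDomain (Ω ⊗[k] A) := by
  have : CharZero Ω := charZero_of_injective_algebraMap (algebraMap k Ω).injective
  refine (Groth.Agent.Sga3B.RG.BrPts.isDomain_iff (K := Ω) (Ω ⊗[k] A)).1
    ⟨K798.SmoothHopf.smooth_specOver Ω _, ?_⟩
  obtain ⟨e, he⟩ := Groth.Agent.Sga3B.BcSpec892.exists_iso k Ω A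
  have h3 : ConnectedSpace (SpecOver k A).left := by assumption
  have h1 : LocallyOfFiniteType (SpecOver k A).hom :=
    (Groth.Agent.Books.AffBridge2.locallyOfFiniteType_specOver_iff k A).2 inferInstance
  have h4 := Groth.Agent.Agf.H614.FieldGlue.connectedSpace_bc (SpecOver k A)
    (Spec.map (CommRingCat.ofHom (algebraMap k Ω)))
  let ε := Scheme.homeoOfIso ((Over.forget _).mapIso e)
  let ε' : ↥(Red.bc (Spec.map (CommRingCat.ofHom (algebraMap k Ω))) (SpecOver k A)).left ≃ₜ
    ↥(SpecOver Ω (Ω ⊗[k] A)).left := ε
  exact ε'.surjective.connectedSpace ε'.continuous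

/-- Linear reductivity gives reductivity of the geometric points. -/
theorem isRedPt_tensor (h : HopfRep.IsLinearlyReductive k A) : IsRedPt Ω (Ω ⊗[k] A) := by
  have : CharZero Ω := charZero_of_injective_algebraMap (algebraMap k Ω).injective
  have hred : _root_.IsReduced (Ω ⊗[k] A) :=
    Groth.Agent.Agf.H601.LieCartier.isReduced_hopf Ω (Ω ⊗[k] A)
  exact K798.LinRedConv.isRedPt
    ((K191.BaseInt.isLinearlyReductive_iff_baseChange (k := k) (A := A) (K := Ω)).1 h)

end K798.BcDom
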