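import Groth.Agent.AGF.K798.LieStab
import Groth.Agent.AGF.K493.NormSub
import Groth.Agent.Agf.H601.LieCartier
import Groth.Agent.Agf.H601.NonUnip
import Groth.Agent.Sga3B.RG.GaHom
import Groth.Agent.Sga3B.RG.CentRed2
import Groth.Agent.S3294
import Groth.Agent.HopfRep.K191.Reductive

/-!
# The kernel of a representation in characteristic zero

`K` algebraically closed, `A` a finitely generated commutative Hopf algebra over `K`.

* `pa V g`: the action of the point `g` on the comodule `V`;
* `kerPt M`: the points acting trivially on `M`; `kerI M`: the ideal of the scheme-theoretic kernel;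
* `vanIdeal_kerPt`: in characteristic zero `kerI M` is the vanishing ideal of `kerPt M`;
* `kerPt_acts_trivially`: if `A` is reductive and `V` is an extension of the trivial line by `M`,
  then `kerPt M` acts trivially on `V`;
* `dact_eq_zero`: an element of the Lie algebra killing `M` kills `V`.
-/

set_option autoImplicit false

universe u v w

open TensorProduct HopfRep WithConv

namespace K798.KerPt

open Groth.Agent.Agf.H601 Groth.Agent.Agf.H601.LieMat Groth.Agent.Books.ComodBasic
  Groth.Agent.Books.ComodHom Groth.Agent.Sga3B.RG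

section points

variable {K : Type u} [Field K] {A : Type u} [CommRing A] [HopfAlgebra K A]
variable {V : Type w} [AddCommGroup V] [Module K V] [Comod K A V]

/-- The action of a point on a comodule. -/
noncomputable def pa (V : Type w) [AddCommGroup V] [Module K V] [Comod K A V] (g : Pt K A) :
    V →ₗ[K] V := dact V g.ofConv.toLinearMap

lemma apply_coeffMap_pt (g : Pt K A) (φ : V →ₗ[K] K) (v : V) :
    g.ofConv (coeffMap A φ v) = φ (pa V g v) :=
  apply_coeffMap φ g.ofConv.toLinearMap v

@[simp] lemma pa_one (v : V) : pa V (1 : Pt K A) v = v := by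
  have h : ((1 : Pt K A).ofConv.toLinearMap : A →ₗ[K] K) = CoalgebraStruct.counit := by
    ext a
    exact Pt.one_apply a
  rw [pa, h, dact_counit]

lemma dmul_pt (g h : Pt K A) : dmul K A g.ofConv.toLinearMap h.ofConv.toLinearMap =
    (g * h).ofConv.toLinearMap := by
  ext a
  have h1 := AlgHom.convMul_apply g h a
  refine Eq.trans ?_ h1.symm
  rw [dmul, LinearMap.comp_apply, LinearMap.comp_apply]
  generalize (CoalgebraStruct.comul (R := K) a : A ⊗[K] A) = z
  induction z with
  | zero => simp
  | tmul x y => simp
  | add x y hx hy => rw [map_add, map_add, hx, hy, map_add]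

lemma pa_mul (g h : Pt K A) (v : V) : pa V (g * h) v = pa V g (pa V h v) := by
  rw [pa, pa, pa, dact_dact, dmul_pt]

lemma pa_inv_self (g : Pt K A) (v : V) : pa V g⁻¹ (pa V g v) = v := by
  rw [← pa_mul, inv_mul_cancel, pa_one]

/-- The points acting trivially on `V`. -/
def kerPt (K : Type u) [Field K] (A : Type u) [CommRing A] [HopfAlgebra K A] (V : Type w) [AddCommGroup V] [Module K V]
    [Comod K A V] : Subgroup (Pt K A) where
  carrier := {g | ∀ v, pa V g v = v}
  mul_mem' := by
    intro g h hg hh v
    rw [pa_mul, hh, hg]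
  one_mem' := pa_one
  inv_mem' := by
    intro g hg v
    conv_lhs => rw [← hg v]
    exact pa_inv_self g v

lemma mem_kerPt {g : Pt K A} : g ∈ kerPt K A V ↔ ∀ v, pa V g v = v := Iff.rfl

lemma normal_kerPt : (kerPt K A V).Normal := by
  constructor
  intro n hn g v
  rw [pa_mul, pa_mul, hn, ← pa_mul, mul_inv_cancel, pa_one]

/-- The generators of the ideal of the kernel. -/
def kerS (K : Type u) [Field K] (A : Type u) [CommRing A] [HopfAlgebra K A] (V : Type w) [AddCommGroup V] [Module K V]
    [Comod K A V] : Set A :=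
  {a | ∃ (φ : V →ₗ[K] K) (v : V), coeffMap A φ v - algebraMap K A (φ v) = a}

/-- The ideal of the scheme-theoretic kernel of the representation `V`. -/
def kerI (K : Type u) [Field K] (A : Type u) [CommRing A] [HopfAlgebra K A] (V : Type w) [AddCommGroup V] [Module K V]
    [Comod K A V] : Ideal A := Ideal.span (kerS K A V)

lemma coeffMap_sub_mem (φ : V →ₗ[K] K) (v : V) :
    coeffMap A φ v - algebraMap K A (φ v) ∈ kerI K A V := Ideal.subset_span ⟨φ, v, rfl⟩

lemma mk_coeffMap (φ : V →ₗ[K] K) (v : V) :
    Ideal.Quotient.mk (kerI K A V) (coeffMap A φ v) =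
      algebraMap K (A ⧸ kerI K A V) (φ v) := by
  have h := Ideal.Quotient.eq.2 (coeffMap_sub_mem (A := A) φ v)
  exact h

lemma zeros_kerI : zeros (kerI K A V) = (kerPt K A V : Set (Pt K A)) := by
  ext g
  constructor
  · intro hg
    change ∀ v, pa V g v = v
    intro v
    rw [← sub_eq_zero]
    refine (Module.forall_dual_apply_eq_zero_iff K _).1 fun φ => ?_
    have h1 : g.ofConv (coeffMap A φ v - algebraMap K A (φ v)) = 0 := hg _ (coeffMap_sub_mem φ v)
    rw [map_sub, apply_coeffMap_pt, AlgHom.commutes] at h1
    rw [map_sub]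
    exact h1
  · intro hg a ha
    have hle : kerI K A V ≤ RingHom.ker g.ofConv := by
      rw [kerI, Ideal.span_le]
      rintro _ ⟨φ, v, rfl⟩
      have h1 : pa V g v = v := hg v
      change g.ofConv (coeffMap A φ v - algebraMap K A (φ v)) = 0
      rw [map_sub, apply_coeffMap_pt, AlgHom.commutes, h1]
      exact sub_self _
    exact hle ha

lemma counit_kerS {a : A} (ha : a ∈ kerS K A V) : CoalgebraStruct.counit (R := K) a = 0 := by
  obtain ⟨φ, v, rfl⟩ := ha
  rw [map_sub, counit_coeffMap, Bialgebra.counit_algebraMap, sub_self]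

/-- The kernel is a closed subgroup scheme. -/
theorem isHopfIdeal_kerI : (kerI K A V).IsHopfIdeal K := by
  refine Groth.Agent.S3294.isHopfIdeal_of (k := K) (kerI K A V) ?_ ?_ ?_
  · have h : kerI K A V ≤ RingHom.ker (Bialgebra.counitAlgHom K A) := by
      rw [kerI, Ideal.span_le]
      intro a ha
      exact counit_kerS ha
    exact fun x hx => h hx
  · have h : kerI K A V ≤ RingHom.ker ((Algebra.TensorProduct.map
        (Ideal.Quotient.mkₐ K (kerI K A V)) (Ideal.Quotient.mkₐ K (kerI K A V))).comp
          (Bialgebra.comulAlgHom K A)) := by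
      rw [kerI, Ideal.span_le, ← kerI]
      rintro _ ⟨φ, v, rfl⟩
      rw [SetLike.mem_coe, RingHom.mem_ker, map_sub, AlgHom.commutes, sub_eq_zero]
      have key : ∀ y : V ⊗[K] A, (Algebra.TensorProduct.map
          (Ideal.Quotient.mkₐ K (kerI K A V)) (Ideal.Quotient.mkₐ K (kerI K A V)))
            ((coeffMap A φ).rTensor A y) = (1 : A ⧸ kerI K A V) ⊗ₜ[K]
              (Ideal.Quotient.mk (kerI K A V) (TensorProduct.lid K A (φ.rTensor A y))) := by
        intro y
        induction y with
        | zero => simp
        | tmul v' a =>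
          rw [LinearMap.rTensor_tmul, Algebra.TensorProduct.map_tmul, LinearMap.rTensor_tmul,
            TensorProduct.lid_tmul]
          change Ideal.Quotient.mk (kerI K A V) (coeffMap A φ v') ⊗ₜ[K]
            Ideal.Quotient.mk (kerI K A V) a = _
          rw [mk_coeffMap, Algebra.algebraMap_eq_smul_one, TensorProduct.smul_tmul]
          rfl
        | add x y hx hy => rw [map_add, map_add, hx, hy, map_add, map_add, map_add, tmul_add]
      have h1 := key (Comod.coact (k := K) (A := A) v)
      have h2 : (coeffMap A φ).rTensor A (Comod.coact (k := K) (A := A) v) =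
        CoalgebraStruct.comul (R := K) (coeffMap A φ v) := (isComodHom_coeffMap φ v).symm
      rw [h2] at h1
      refine h1.trans ?_
      rw [← coeffMap_apply, mk_coeffMap]
      rw [Algebra.algebraMap_eq_smul_one, Algebra.algebraMap_eq_smul_one,
        Algebra.TensorProduct.one_def, TensorProduct.tmul_smul]
    exact fun x hx => h hx
  · have h : kerI K A V ≤ (kerI K A V).comap (HopfAlgebra.antipodeAlgHom K A) := by
      rw [kerI, Ideal.span_le, ← kerI]
      rintro _ ⟨φ, v, rfl⟩
      rw [SetLike.mem_coe, Ideal.mem_comap, map_sub, AlgHom.commutes]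
      rw [← Ideal.Quotient.eq]
      -- `a ↦ mk (a₁) * mk (S a₂)`
      have key : ∀ y : V ⊗[K] A, Algebra.TensorProduct.lift
          (Ideal.Quotient.mkₐ K (kerI K A V))
          ((Ideal.Quotient.mkₐ K (kerI K A V)).comp (HopfAlgebra.antipodeAlgHom K A))
          (fun _ _ => Commute.all _ _) ((coeffMap A φ).rTensor A y) =
            Ideal.Quotient.mk (kerI K A V) (HopfAlgebra.antipodeAlgHom K A
              (TensorProduct.lid K A (φ.rTensor A y))) := by
        intro y
        induction y with
        | zero => simp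
        | tmul v' a =>
          rw [LinearMap.rTensor_tmul, Algebra.TensorProduct.lift_tmul, LinearMap.rTensor_tmul,
            TensorProduct.lid_tmul, map_smul]
          change Ideal.Quotient.mk (kerI K A V) (coeffMap A φ v') * _ = _
          rw [mk_coeffMap, ← Algebra.smul_def]
          rfl
        | add x y hx hy => rw [map_add, map_add, hx, hy, map_add, map_add, map_add, map_add]
      have h1 := key (Comod.coact (k := K) (A := A) v)
      have h2 : (coeffMap A φ).rTensor A (Comod.coact (k := K) (A := A) v) =
        CoalgebraStruct.comul (R := K) (coeffMap A φ v) := (isComodHom_coeffMap φ v).symm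
      rw [h2, ← coeffMap_apply] at h1
      rw [← h1]
      have h3 : ∀ z : A ⊗[K] A, Algebra.TensorProduct.lift
          (Ideal.Quotient.mkₐ K (kerI K A V))
          ((Ideal.Quotient.mkₐ K (kerI K A V)).comp (HopfAlgebra.antipodeAlgHom K A))
          (fun _ _ => Commute.all _ _) z = Ideal.Quotient.mk (kerI K A V)
            (LinearMap.mul' K A ((HopfAlgebraStruct.antipode K).lTensor A z)) := by
        intro z
        induction z with
        | zero => simp
        | tmul a b => simp
        | add x y hx hy => rw [map_add, map_add, hx, hy, map_add, map_add]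
      rw [h3, HopfAlgebra.mul_antipode_lTensor_comul_apply, counit_coeffMap]
    exact fun x hx => h hx

end points

section main

variable {K : Type u} [Field K] {A : Type u} [CommRing A] [HopfAlgebra K A]
variable {V : Type w} [AddCommGroup V] [Module K V] [Comod K A V]

lemma invForm_dact {f : V →ₗ[K] K} (hf : K191.Reductive.InvForm (A := A) f) (φ : A →ₗ[K] K) (v : V) :
    f (dact V φ v) = φ 1 * f v := by
  rw [dact_apply, ← slice_rTensor, hf v, slice_tmul, smul_eq_mul]

lemma additive_sub {g h : Pt K A} (φ : V →ₗ[K] K) {v : V} (hg : pa V g (pa V h v - v) = pa V h v - v) :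
    (g * h) (coeffMap A φ v - algebraMap K A (φ v)) = g (coeffMap A φ v - algebraMap K A (φ v)) +
      h (coeffMap A φ v - algebraMap K A (φ v)) := by
  have e : ∀ g : Pt K A, g (coeffMap A φ v - algebraMap K A (φ v)) = φ (pa V g v) - φ v := by
    intro g
    change g.ofConv (coeffMap A φ v - algebraMap K A (φ v)) = _
    rw [map_sub, apply_coeffMap_pt, AlgHom.commutes]
    rfl
  rw [e, e, e, pa_mul]
  rw [map_sub] at hg
  have h1 : pa V g (pa V h v) = pa V g v + (pa V h v - v) := by rw [← hg]; abel
  rw [h1, map_add, map_sub]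
  ring

variable [IsAlgClosed K] [CharZero K] [Algebra.FiniteType K A]

/-- In characteristic zero `kerI` is the vanishing ideal of `kerPt`. -/
theorem vanIdeal_kerPt : vanIdeal (kerPt K A V : Set (Pt K A)) = kerI K A V := by
  have h1 : (kerI K A V).IsHopfIdeal K := isHopfIdeal_kerI
  have h2 : IsReduced (A ⧸ kerI K A V) := LieCartier.isReduced_hopf K _
  have h3 : (kerI K A V).IsRadical := (Ideal.isRadical_iff_quotient_reduced _).2 h2
  rw [← zeros_kerI, Groth.Agent.Sga3B.RG.vanIdeal_zeros, h3.radical]

variable [IsDomain A]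

/-- Additive functions on a closed normal subgroup of a reductive group vanish. -/
theorem additive_eq_zero (hred : IsRedPt K A) {N : Subgroup (Pt K A)} (hn : N.Normal)
    (hcl : IsCl (N : Set (Pt K A))) {y : A} (hy : ∀ g ∈ N, ∀ h ∈ N, (g * h) y = g y + h y)
    {g : Pt K A} (hg : g ∈ N) : g y = 0 := by
  have hn0 := normal_idComp hcl hn
  have hcl0 := isCl_idComp N
  have hle := idComp_le hcl
  -- the identity component
  have h0 : ∀ g ∈ idComp N, g y = 0 := by
    have hdom : IsDomain (A ⧸ vanIdeal (idComp N : Set (Pt K A))) :=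
      (Ideal.Quotient.isDomain_iff_prime _).2 (isConn_idComp N)
    have hredB : IsRedPt K (A ⧸ vanIdeal (idComp N : Set (Pt K A))) :=
      (isRedSub_iff hcl0).1 (K493.NormSub.isRedSub_of_normal hred hn0 hcl0)
    obtain ⟨T, -, hT⟩ := GaHom.exists_isMaxTorusSub
      (GaHom.isTorusSub_bot (K := K) (A := A ⧸ vanIdeal (idComp N : Set (Pt K A))))
    have hmem : ∀ x : Pt K (A ⧸ vanIdeal (idComp N : Set (Pt K A))),
        quotMap (vanIdeal (idComp N : Set (Pt K A))) x ∈ idComp N := fun x =>
      (range_quotMap_vanIdeal (idComp N) hcl0).le ⟨x, rfl⟩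
    have h1 : (Ideal.Quotient.mk (vanIdeal (idComp N : Set (Pt K A))) y) = 0 := by
      refine GaHom.eq_zero_of_additive (fun g h => ?_) hT.1 (CentRed2.centralizer_eq hredB hT)
      have := hy _ (hle (hmem g)) _ (hle (hmem h))
      rw [← map_mul] at this
      exact this
    intro g hg
    exact mem_vanIdeal.1 (Ideal.Quotient.eq_zero_iff_mem.1 h1) g hg
  obtain ⟨m, hm, hm', hmem⟩ := Subgroup.exists_pow_mem_of_relIndex_ne_zero
    (relIndex_idComp_ne_zero hcl) hg
  have h1 : ∀ m : ℕ, (g ^ m) y = m * g y := by
    intro m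
    induction m with
    | zero =>
      have h2 := hy 1 N.one_mem 1 N.one_mem
      rw [mul_one] at h2
      rw [pow_zero, Nat.cast_zero, zero_mul]
      exact left_eq_add.1 h2
    | succ m ih =>
      rw [pow_succ, hy _ (pow_mem hg m) _ hg, ih]
      push_cast
      ring
  have h2 := h0 _ hmem.1
  rw [h1] at h2
  exact (mul_eq_zero.1 h2).resolve_left (by exact_mod_cast hm.ne')

variable {M : Type w} [AddCommGroup M] [Module K M] [Comod K A M]

/-- If `V` is an extension of the trivial line by `M` over a reductive group, then the points acting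
trivially on `M` act trivially on `V`. -/
theorem pa_eq_self (hred : IsRedPt K A) {ι : M →ₗ[K] V} (hι : IsComodHom K A ι) {f : V →ₗ[K] K}
    (hf : K191.Reductive.InvForm (A := A) f) (hker : ∀ v, f v = 0 → v ∈ LinearMap.range ι)
    {g : Pt K A} (hg : g ∈ kerPt K A M) (v : V) : pa V g v = v := by
  have hcl : IsCl (kerPt K A M : Set (Pt K A)) := by
    rw [← zeros_kerI]
    exact isCl_zeros _
  have h1 : ∀ g ∈ kerPt K A M, ∀ h ∈ kerPt K A M, ∀ v : V,
      pa V g (pa V h v - v) = pa V h v - v := by
    intro g hg h hh v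
    have h2 : f (pa V h v - v) = 0 := by
      rw [map_sub, pa, invForm_dact hf, AlgHom.toLinearMap_apply, map_one, one_mul, sub_self]
    obtain ⟨m, hm⟩ := hker _ h2
    rw [← hm, pa, ← hι.map_dact]
    congr 1
    exact hg m
  rw [← sub_eq_zero]
  refine (Module.forall_dual_apply_eq_zero_iff K _).1 fun φ => ?_
  have h3 := additive_eq_zero hred normal_kerPt hcl
    (y := coeffMap A φ v - algebraMap K A (φ v))
    (fun g hg h hh => additive_sub φ (h1 g hg h hh v)) hg
  change g.ofConv (coeffMap A φ v - algebraMap K A (φ v)) = 0 at h3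
  rw [map_sub, apply_coeffMap_pt, AlgHom.commutes] at h3
  rw [map_sub]
  exact h3

/-- If `V` is an extension of the trivial line by `M` over a reductive group, an element of the Lie
algebra killing `M` kills `V`. -/
theorem dact_eq_zero (hred : IsRedPt K A) {ι : M →ₗ[K] V} (hι : IsComodHom K A ι) {f : V →ₗ[K] K}
    (hf : K191.Reductive.InvForm (A := A) f) (hker : ∀ v, f v = 0 → v ∈ LinearMap.range ι)
    {X : A →ₗ[K] K} (hX : IsLie X) (hXM : ∀ m : M, dact M X m = 0) (v : V) : dact V X v = 0 := by
  refine (Module.forall_dual_apply_eq_zero_iff K _).1 fun φ => ?_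
  have h1 : coeffMap A φ v - algebraMap K A (φ v) ∈ kerI K A M := by
    rw [← vanIdeal_kerPt]
    intro g hg
    change g.ofConv (coeffMap A φ v - algebraMap K A (φ v)) = 0
    rw [map_sub, apply_coeffMap_pt, AlgHom.commutes, pa_eq_self hred hι hf hker hg]
    exact sub_self _
  have h2 := (NonUnip.kills_span hX (s := kerS K A M) (fun x hx => ⟨?_, counit_kerS hx⟩) h1).1
  · rw [map_sub, LieBasic.IsLie.map_algebraMap hX, sub_zero, apply_coeffMap] at h2
    exact h2
  · obtain ⟨ψ, m, rfl⟩ := hx
    rw [map_sub, LieBasic.IsLie.map_algebraMap hX, sub_zero, apply_coeffMap, hXM, map_zero]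

end main

end K798.KerPt
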