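import Groth.Agent.Agf.H601.LieMat
import Groth.Agent.Books.ComodHom
import Mathlib.RingTheory.Filtration
import Mathlib.RingTheory.FiniteType

/-!
# Stability under the Lie algebra implies stability under the group (characteristic zero)

`A` is a Noetherian commutative Hopf algebra over a field `K` of characteristic zero which is a
domain.

* `eq_bot_of_stable`: a subspace of the augmentation ideal stable under the left invariant
  derivations `rD X`, `X` in the Lie algebra, is zero;
* `isSubcomod_of_lie`: a subspace of a comodule stable under the Lie algebra is a subcomodule;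
* `mem_fixedPts_of_lie`: a vector killed by the Lie algebra is fixed.
-/

set_option autoImplicit false

universe u v w

open TensorProduct HopfRep

namespace K798.LieStab

open Groth.Agent.Agf.H601 Groth.Agent.Agf.H601.LieMat Groth.Agent.Books.ComodBasic
  Groth.Agent.Books.ComodHom

variable {K : Type u} [Field K] {A : Type u} [CommRing A] [HopfAlgebra K A]

/-- The augmentation ideal. -/
noncomputable abbrev aug (K : Type u) [Field K] (A : Type u) [CommRing A] [HopfAlgebra K A] :
    Ideal A := RingHom.ker (Bialgebra.counitAlgHom K A)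

lemma mem_aug {a : A} : a ∈ aug K A ↔ CoalgebraStruct.counit (R := K) a = 0 := Iff.rfl

lemma sub_counit_mem (a : A) :
    a - algebraMap K A (CoalgebraStruct.counit (R := K) a) ∈ aug K A := by
  rw [mem_aug, map_sub, sub_eq_zero]
  have := Bialgebra.counit_algebraMap (R := K) (A := A) (CoalgebraStruct.counit (R := K) a)
  exact this.symm

/-- A functional vanishing on the constants and on the square of the augmentation ideal lies in the
Lie algebra. -/
lemma isLie_of {X : A →ₗ[K] K} (h1 : X 1 = 0) (h2 : ∀ a ∈ aug K A ^ 2, X a = 0) : IsLie X := by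
  intro a b
  set ea := CoalgebraStruct.counit (R := K) a with hea
  set eb := CoalgebraStruct.counit (R := K) b with heb
  have h3 := h2 _ (Ideal.mul_mem_mul (sub_counit_mem (K := K) a) (sub_counit_mem (K := K) b) |>
    fun h => (sq (aug K A)).symm ▸ h)
  have h4 : (a - algebraMap K A ea) * (b - algebraMap K A eb) =
      a * b - eb • a - ea • b + (ea * eb) • (1 : A) := by
    rw [Algebra.smul_def, Algebra.smul_def, Algebra.smul_def, map_mul]
    ring
  rw [← hea, ← heb, h4, map_add, map_sub, map_sub, map_smul, map_smul, map_smul, h1] at h3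
  simp only [smul_eq_mul, mul_zero, add_zero] at h3
  linear_combination h3

/-- The subspace `K + m ^ 2`. -/
noncomputable def P (K : Type u) [Field K] (A : Type u) [CommRing A] [HopfAlgebra K A] :
    Submodule K A := Submodule.span K {1} ⊔ (aug K A ^ 2).restrictScalars K

lemma finite_quotient [IsNoetherianRing A] : Module.Finite K (A ⧸ P K A) := by
  classical
  obtain ⟨s, hs⟩ := (isNoetherianRing_iff_ideal_fg A).1 inferInstance (aug K A)
  refine ⟨⟨s.image (P K A).mkQ, ?_⟩⟩
  rw [Finset.coe_image, ← Submodule.map_span, eq_top_iff]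
  rintro x -
  obtain ⟨a, rfl⟩ := (P K A).mkQ_surjective x
  -- every element of `m` is in `span s + m ^ 2`
  have key : ∀ b ∈ aug K A, ∃ c ∈ Submodule.span K (s : Set A), b - c ∈ aug K A ^ 2 := by
    intro b hb
    rw [← hs] at hb
    refine Submodule.span_induction (fun x hx => ?_) ?_ (fun x y _ _ hx hy => ?_)
      (fun r x hxs hx => ?_) hb
    · exact ⟨x, Submodule.subset_span hx, by rw [sub_self]; exact zero_mem _⟩
    · exact ⟨0, zero_mem _, by rw [sub_self]; exact zero_mem _⟩
    · obtain ⟨c, hc, hc'⟩ := hx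
      obtain ⟨d, hd, hd'⟩ := hy
      exact ⟨c + d, add_mem hc hd, by rw [add_sub_add_comm]; exact add_mem hc' hd'⟩
    · obtain ⟨c, hc, hc'⟩ := hx
      refine ⟨CoalgebraStruct.counit (R := K) r • c, Submodule.smul_mem _ _ hc, ?_⟩
      have hx : x ∈ aug K A := by rw [← hs]; exact hxs
      have h1 : r • x - CoalgebraStruct.counit (R := K) r • c =
          (r - algebraMap K A (CoalgebraStruct.counit (R := K) r)) * x +
            algebraMap K A (CoalgebraStruct.counit (R := K) r) * (x - c) := by
        rw [smul_eq_mul, Algebra.smul_def]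
        ring
      rw [h1]
      refine add_mem ?_ (Ideal.mul_mem_left _ _ hc')
      rw [sq]
      exact Ideal.mul_mem_mul (sub_counit_mem r) hx
  obtain ⟨c, hc, hc'⟩ := key _ (sub_counit_mem (K := K) a)
  refine ⟨c, hc, ?_⟩
  rw [← sub_eq_zero, ← map_sub, Submodule.mkQ_apply, Submodule.Quotient.mk_eq_zero]
  have h2 : c - a = -(algebraMap K A (CoalgebraStruct.counit (R := K) a)) -
      (a - algebraMap K A (CoalgebraStruct.counit (R := K) a) - c) := by ring
  rw [h2]
  refine sub_mem (Submodule.mem_sup_left ?_) (Submodule.mem_sup_right hc')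
  rw [Algebra.algebraMap_eq_smul_one, ← neg_smul]
  exact Submodule.smul_mem _ _ (Submodule.mem_span_singleton_self _)

/-- Dual bases: finitely many `t i` in the augmentation ideal and `X i` in the Lie algebra with
`b ≡ ∑ X i (b) t i` modulo `m ^ 2` for `b` in `m`. -/
lemma exists_dual [IsNoetherianRing A] : ∃ (n : ℕ) (t : Fin n → A) (X : Fin n → (A →ₗ[K] K)),
    (∀ i, t i ∈ aug K A) ∧ (∀ i, IsLie (X i)) ∧
      ∀ b ∈ aug K A, b - ∑ i, X i b • t i ∈ aug K A ^ 2 := by
  have := finite_quotient (K := K) (A := A)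
  let q := Module.finBasis K (A ⧸ P K A)
  have h1 : ∀ i, ∃ t ∈ aug K A, (P K A).mkQ t = q i := by
    intro i
    obtain ⟨a, ha⟩ := (P K A).mkQ_surjective (q i)
    refine ⟨_, sub_counit_mem (K := K) a, ?_⟩
    rw [map_sub, ha, sub_eq_self, Submodule.mkQ_apply, Submodule.Quotient.mk_eq_zero]
    refine Submodule.mem_sup_left ?_
    rw [Algebra.algebraMap_eq_smul_one]
    exact Submodule.smul_mem _ _ (Submodule.mem_span_singleton_self _)
  choose t ht ht' using h1
  have h2 : ∀ i, IsLie (q.coord i ∘ₗ (P K A).mkQ) := by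
    intro i
    refine isLie_of ?_ fun a ha => ?_
    · have : (P K A).mkQ 1 = 0 := by
        rw [Submodule.mkQ_apply, Submodule.Quotient.mk_eq_zero]
        exact Submodule.mem_sup_left (Submodule.mem_span_singleton_self _)
      rw [LinearMap.comp_apply, this, map_zero]
    · have : (P K A).mkQ a = 0 := by
        rw [Submodule.mkQ_apply, Submodule.Quotient.mk_eq_zero]
        exact Submodule.mem_sup_right ha
      rw [LinearMap.comp_apply, this, map_zero]
  refine ⟨_, t, fun i => q.coord i ∘ₗ (P K A).mkQ, ht, h2, fun b hb => ?_⟩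
  set c := b - ∑ i, (q.coord i ∘ₗ (P K A).mkQ) b • t i with hc
  have h3 : c ∈ aug K A := by
    refine sub_mem hb (sum_mem fun i _ => ?_)
    rw [Algebra.smul_def]
    exact Ideal.mul_mem_left _ _ (ht i)
  have h4 : c ∈ P K A := by
    rw [← Submodule.Quotient.mk_eq_zero, ← Submodule.mkQ_apply, hc, map_sub, map_sum, sub_eq_zero]
    conv_lhs => rw [← q.sum_repr ((P K A).mkQ b)]
    refine Finset.sum_congr rfl fun i _ => ?_
    rw [map_smul, ht' i]
    rfl
  obtain ⟨y, hy, z, hz, hyz⟩ := Submodule.mem_sup.1 h4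
  obtain ⟨r, rfl⟩ := Submodule.mem_span_singleton.1 hy
  have h5 : r = 0 := by
    have h6 := mem_aug.1 h3
    rw [← hyz, map_add, map_smul] at h6
    have h7 : CoalgebraStruct.counit (R := K) z = 0 :=
      mem_aug.1 (Ideal.pow_le_self two_ne_zero hz)
    rw [h7, Bialgebra.counit_one, smul_eq_mul, mul_one, add_zero] at h6
    exact h6
  rw [← hyz, h5, zero_smul, zero_add]
  exact hz

section euler

variable {n : ℕ} {t : Fin n → A} {X : Fin n → (A →ₗ[K] K)}

/-- The Euler operator. -/
noncomputable def eul (t : Fin n → A) (X : Fin n → (A →ₗ[K] K)) (a : A) : A :=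
  ∑ i, t i * rD (X i) a

lemma eul_mul (hX : ∀ i, IsLie (X i)) (a b : A) :
    eul t X (a * b) = a * eul t X b + b * eul t X a := by
  simp only [eul, Finset.mul_sum, ← Finset.sum_add_distrib]
  refine Finset.sum_congr rfl fun i _ => ?_
  rw [rD_mul (hX i)]
  ring

lemma eul_add (a b : A) : eul t X (a + b) = eul t X a + eul t X b := by
  simp only [eul, map_add, mul_add, Finset.sum_add_distrib]

lemma eul_mem (ht : ∀ i, t i ∈ aug K A) {m : ℕ} {a : A} (ha : ∀ i, rD (X i) a ∈ aug K A ^ m) :
    eul t X a ∈ aug K A ^ (m + 1) := by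
  rw [pow_succ']
  exact sum_mem fun i _ => Ideal.mul_mem_mul (ht i) (ha i)

lemma eul_sub_mem_one (ht : ∀ i, t i ∈ aug K A)
    (hd : ∀ b ∈ aug K A, b - ∑ i, X i b • t i ∈ aug K A ^ 2) {b : A} (hb : b ∈ aug K A) :
    eul t X b - b ∈ aug K A ^ 2 := by
  have h1 : eul t X b - b = ∑ i, t i * (rD (X i) b - algebraMap K A (X i b)) -
      (b - ∑ i, X i b • t i) := by
    simp only [eul, mul_sub, Finset.sum_sub_distrib, Algebra.smul_def]
    have : ∑ i, t i * algebraMap K A (X i b) = ∑ i, algebraMap K A (X i b) * t i :=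
      Finset.sum_congr rfl fun i _ => mul_comm _ _
    rw [this]
    ring
  rw [h1]
  refine sub_mem (sum_mem fun i _ => ?_) (hd b hb)
  rw [sq]
  refine Ideal.mul_mem_mul (ht i) ?_
  rw [← counit_rD (X := X i) b]
  exact sub_counit_mem _

lemma eul_sub_mem (hX : ∀ i, IsLie (X i)) (ht : ∀ i, t i ∈ aug K A)
    (hd : ∀ b ∈ aug K A, b - ∑ i, X i b • t i ∈ aug K A ^ 2) (m : ℕ) :
    ∀ a ∈ aug K A ^ m, eul t X a - (m : A) * a ∈ aug K A ^ (m + 1) := by
  induction m with
  | zero =>
    intro a _
    rw [Nat.cast_zero, zero_mul, sub_zero]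
    exact eul_mem ht fun i => by rw [pow_zero, Ideal.one_eq_top]; trivial
  | succ m ih =>
    intro a ha
    rw [pow_succ] at ha
    refine Submodule.mul_induction_on ha (fun b hb c hc => ?_) (fun b c hb hc => ?_)
    · have h1 : eul t X (b * c) - ((m + 1 : ℕ) : A) * (b * c) =
          b * (eul t X c - c) + (eul t X b - (m : A) * b) * c := by
        rw [eul_mul hX]
        push_cast
        ring
      rw [h1]
      refine add_mem ?_ ?_
      · have := Ideal.mul_mem_mul hb (eul_sub_mem_one ht hd hc)
        rwa [← pow_add] at this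
      · have := Ideal.mul_mem_mul (ih b hb) hc
        rwa [← pow_succ] at this
    · rw [eul_add, mul_add, add_sub_add_comm]
      exact add_mem hb hc

end euler

section stable

variable [IsNoetherianRing A] [IsDomain A] [CharZero K]

/-- **A subspace of the augmentation ideal stable under the Lie algebra is zero.** -/
theorem eq_bot_of_stable (S : Submodule K A) (hS : ∀ X : A →ₗ[K] K, IsLie X → ∀ a ∈ S, rD X a ∈ S)
    (h0 : ∀ a ∈ S, CoalgebraStruct.counit (R := K) a = 0) : S = ⊥ := by
  obtain ⟨n, t, X, ht, hX, hd⟩ := exists_dual (K := K) (A := A)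
  have key : ∀ m : ℕ, ∀ a ∈ S, a ∈ aug K A ^ (m + 1) := by
    intro m
    induction m with
    | zero =>
      intro a ha
      rw [zero_add, pow_one]
      exact h0 a ha
    | succ m ih =>
      intro a ha
      have h1 := eul_sub_mem hX ht hd (m + 1) a (ih a ha)
      have h2 : eul t X a ∈ aug K A ^ (m + 1 + 1) :=
        eul_mem ht fun i => ih _ (hS _ (hX i) a ha)
      have h3 : ((m + 1 : ℕ) : A) * a ∈ aug K A ^ (m + 1 + 1) := by
        have := sub_mem h2 h1
        rwa [sub_sub_cancel] at this
      have h4 : a = algebraMap K A (((m + 1 : ℕ) : K)⁻¹) * (((m + 1 : ℕ) : A) * a) := by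
        rw [← mul_assoc, ← map_natCast (algebraMap K A), ← map_mul,
          inv_mul_cancel₀ (by exact_mod_cast Nat.succ_ne_zero m), map_one, one_mul]
      rw [h4]
      exact Ideal.mul_mem_left _ _ h3
  rw [eq_bot_iff]
  intro a ha
  have h1 : a ∈ (⨅ i : ℕ, aug K A ^ i : Ideal A) := by
    rw [Submodule.mem_iInf]
    intro i
    exact Ideal.pow_le_pow_right (Nat.le_succ i) (key i a ha)
  have h2 : aug K A ≠ ⊤ := by
    rw [Ideal.ne_top_iff_one]
    intro h
    have := mem_aug.1 h
    rw [Bialgebra.counit_one] at this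
    exact one_ne_zero this
  rw [Ideal.iInf_pow_eq_bot_of_isDomain _ h2] at h1
  exact h1

variable {V : Type w} [AddCommGroup V] [Module K V] [Comod K A V]

omit [IsNoetherianRing A] [IsDomain A] [CharZero K] in
lemma rD_coeffMap (X : A →ₗ[K] K) (φ : V →ₗ[K] K) (v : V) :
    rD X (coeffMap A φ v) = coeffMap A φ (dact V X v) :=
  ((isComodHom_coeffMap φ).map_dact X v).symm

/-- **A subspace stable under the Lie algebra is a subcomodule.** -/
theorem isSubcomod_of_lie {W : Submodule K V}
    (hW : ∀ X : A →ₗ[K] K, IsLie X → ∀ w ∈ W, dact V X w ∈ W) :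
    IsSubcomod (k := K) (A := A) W := by
  let S : Submodule K A := Submodule.span K
    {a | ∃ (φ : V →ₗ[K] K) (w : V), (∀ w' ∈ W, φ w' = 0) ∧ w ∈ W ∧ coeffMap A φ w = a}
  have hS : S = ⊥ := by
    refine eq_bot_of_stable S (fun X hX a ha => ?_) (fun a ha => ?_)
    · refine Submodule.span_induction (fun x hx => ?_) ?_ (fun x y _ _ hx hy => ?_)
        (fun r x _ hx => ?_) ha
      · obtain ⟨φ, w, h1, h2, rfl⟩ := hx
        rw [rD_coeffMap]
        exact Submodule.subset_span ⟨φ, _, h1, hW X hX w h2, rfl⟩
      · rw [map_zero]; exact zero_mem _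
      · rw [map_add]; exact add_mem hx hy
      · rw [map_smul]; exact Submodule.smul_mem _ _ hx
    · refine Submodule.span_induction (fun x hx => ?_) ?_ (fun x y _ _ hx hy => ?_)
        (fun r x _ hx => ?_) ha
      · obtain ⟨φ, w, h1, h2, rfl⟩ := hx
        rw [counit_coeffMap, h1 w h2]
      · rw [map_zero]
      · rw [map_add, hx, hy, add_zero]
      · rw [map_smul, hx, smul_zero]
  rw [isSubcomod_iff_dact]
  intro ψ w hw
  by_contra hcon
  obtain ⟨φ, hφ, hφ'⟩ := Submodule.exists_le_ker_of_notMem hcon
  have h1 : coeffMap A φ w ∈ S := Submodule.subset_span ⟨φ, w, fun w' hw' => hφ' hw', hw, rfl⟩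
  rw [hS, Submodule.mem_bot] at h1
  apply hφ
  rw [← apply_coeffMap (A := A), h1, map_zero]

/-- **A vector killed by the Lie algebra is fixed.** -/
theorem mem_fixedPts_of_lie {v : V} (hv : ∀ X : A →ₗ[K] K, IsLie X → dact V X v = 0) :
    v ∈ fixedPts K A V := by
  let S : Submodule K A := Submodule.span K
    {a | ∃ φ : V →ₗ[K] K, coeffMap A φ v - algebraMap K A (φ v) = a}
  have hS : S = ⊥ := by
    refine eq_bot_of_stable S (fun X hX a ha => ?_) (fun a ha => ?_)
    · refine Submodule.span_induction (fun x hx => ?_) ?_ (fun x y _ _ hx hy => ?_)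
        (fun r x _ hx => ?_) ha
      · obtain ⟨φ, rfl⟩ := hx
        have h1 : rD X (algebraMap K A (φ v)) = 0 := by
          rw [Algebra.algebraMap_eq_smul_one, map_smul]
          have h2 := rD_mul hX (1 : A) 1
          rw [one_mul, one_mul] at h2
          have h3 : rD X (1 : A) = 0 := by
            have := congrArg (fun z => z - rD X (1 : A)) h2
            simpa using this.symm
          rw [h3, smul_zero]
        rw [map_sub, rD_coeffMap, hv X hX, map_zero, h1, sub_zero]
        exact zero_mem _
      · rw [map_zero]; exact zero_mem _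
      · rw [map_add]; exact add_mem hx hy
      · rw [map_smul]; exact Submodule.smul_mem _ _ hx
    · refine Submodule.span_induction (fun x hx => ?_) ?_ (fun x y _ _ hx hy => ?_)
        (fun r x _ hx => ?_) ha
      · obtain ⟨φ, rfl⟩ := hx
        rw [map_sub, counit_coeffMap, Bialgebra.counit_algebraMap, sub_self]
      · rw [map_zero]
      · rw [map_add, hx, hy, add_zero]
      · rw [map_smul, hx, smul_zero]
  change Comod.coact (k := K) (A := A) v = v ⊗ₜ[K] (1 : A)
  rw [coact_eq_tmul_iff]
  intro ψ
  rw [← sub_eq_zero]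
  refine (Module.forall_dual_apply_eq_zero_iff K _).1 fun φ => ?_
  have h1 : coeffMap A φ v - algebraMap K A (φ v) ∈ S := Submodule.subset_span ⟨φ, rfl⟩
  rw [hS, Submodule.mem_bot, sub_eq_zero] at h1
  rw [map_sub, map_smul, ← apply_coeffMap (A := A), h1, Algebra.algebraMap_eq_smul_one, map_smul,
    smul_eq_mul, smul_eq_mul, mul_comm, sub_self]

end stable

end K798.LieStab
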