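import Groth.Agent.Localalg.CartierSch
import Groth.Agent.Books.AffBridge2
import Groth.Agent.Agf.H612.GalMain

/-!
# Smoothness of affine algebraic groups in characteristic zero (Cartier), `SpecOver` form
-/

set_option autoImplicit false
universe u
open CategoryTheory MonoidalCategory CartesianMonoidalCategory MonObj GrpObj AlgebraicGeometry

namespace K798.SmoothHopf

theorem smooth_of_grp {F : Type u} [Field F] [CharZero F]
    (G : Over (Spec (CommRingCat.of F))) [GrpObj G] [h : LocallyOfFiniteType G.hom] :
    Smooth G.hom :=
  @Groth.Agent.Localalg.CartierSch.smooth_of_grpObj_of_charZero F _ G.left G.hom h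
    (inferInstanceAs (GrpObj G)) _

theorem smooth_specOver (F B : Type u) [Field F] [CharZero F] [CommRing B] [HopfAlgebra F B]
    [Algebra.FiniteType F B] : Smooth (Groth.Agent.Books.AffBridge.SpecOver F B).hom := by
  have h1 : LocallyOfFiniteType (Groth.Agent.Books.AffBridge.SpecOver F B).hom :=
    (Groth.Agent.Books.AffBridge2.locallyOfFiniteType_specOver_iff F B).2 inferInstance
  exact smooth_of_grp _

end K798.SmoothHopf
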